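import Mathlib.CategoryTheory.Abelian.Projective.Resolution
import Mathlib.CategoryTheory.Abelian.Projective.Dimension
import Mathlib.CategoryTheory.Monoidal.Tor
import Mathlib.Algebra.Homology.Augment

/-! Projective resolutions of length `d` for objects of projective dimension `≤ d`, by splicing. -/

set_option autoImplicit false
universe v u

namespace Groth.Agent.PdRes

open CategoryTheory Limits HomologicalComplex

variable {C : Type u} [Category.{v} C] [Abelian C]

set_option backward.isDefEq.respectTransparency false in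
/-- splice a resolution of the kernel onto a projective cover -/
noncomputable def splice (S : ShortComplex C) (hS : S.ShortExact) [Projective S.X₂]
    (R : ProjectiveResolution S.X₁) : ProjectiveResolution S.X₃ :=
  haveI := hS.mono_f
  haveI := hS.epi_g
  { complex := ChainComplex.augment R.complex (R.π.f 0 ≫ S.f) (by rw [← Category.assoc, R.complex_d_comp_π_f_zero, zero_comp])
    projective := fun n => by
      cases n with
      | zero => exact ‹Projective S.X₂›
      | succ n => exact R.projective n
    π := (ChainComplex.toSingle₀Equiv _ _).symm ⟨S.g, by simp [S.zero]⟩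
    quasiIso := ⟨fun n => by
      cases n with
      | zero =>
        rw [ChainComplex.quasiIsoAt₀_iff, ShortComplex.quasiIso_iff_of_zeros']
        · refine (ShortComplex.exact_and_epi_g_iff_of_iso ?_).2
            (⟨?_, hS.epi_g⟩ : (ShortComplex.mk (R.π.f 0 ≫ S.f) S.g (by simp [S.zero])).Exact ∧ Epi S.g)
          · exact ShortComplex.isoMk (Iso.refl _) (Iso.refl _) (Iso.refl _) (by simp) (by simp [ChainComplex.toSingle₀Equiv])
          · let α : ShortComplex.mk (R.π.f 0 ≫ S.f) S.g (by simp [S.zero]) ⟶ S :=
              { τ₁ := R.π.f 0, τ₂ := 𝟙 _, τ₃ := 𝟙 _ }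
            exact (ShortComplex.exact_iff_of_epi_of_isIso_of_mono α).2 hS.exact
        all_goals rfl
      | succ n =>
        rw [quasiIsoAt_iff_exactAt' _ _ (ChainComplex.exactAt_succ_single_obj _ _)]
        rw [HomologicalComplex.exactAt_iff' _ (n + 2) (n + 1) n (by simp) (by simp)]
        cases n with
        | zero =>
          let α : ShortComplex.mk (R.complex.d 1 0) (R.π.f 0) (by simp) ⟶
              ShortComplex.mk (R.complex.d 1 0) (R.π.f 0 ≫ S.f) (by simp) :=
            { τ₁ := 𝟙 _, τ₂ := 𝟙 _, τ₃ := S.f }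
          exact (ShortComplex.exact_iff_of_epi_of_isIso_of_mono α).1 R.exact₀
        | succ n => exact R.exact_succ n⟩ }

theorem exists_resolution [EnoughProjectives C] :
    ∀ (d : ℕ) (M : C), HasProjectiveDimensionLE M d →
      ∃ P : ProjectiveResolution M, ∀ i : ℕ, d < i → IsZero (P.complex.X i)
  | 0, M, h => by
    haveI : Projective M := (projective_iff_hasProjectiveDimensionLE_zero M).2 h
    exact ⟨ProjectiveResolution.self M, fun i hi =>
      HomologicalComplex.isZero_single_obj_X _ 0 _ i hi.ne'⟩
  | d + 1, M, h => by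
    let S : ShortComplex C := ShortComplex.mk (kernel.ι (Projective.π M)) (Projective.π M) (kernel.condition _)
    have hS : S.ShortExact :=
      { exact := ShortComplex.exact_of_f_is_kernel S (kernelIsKernel _) }
    obtain ⟨P, hP⟩ := exists_resolution d S.X₁ ((hS.hasProjectiveDimensionLT_X₃_iff d inferInstance).1 h)
    haveI : Projective S.X₂ := inferInstanceAs (Projective (Projective.over M))
    refine ⟨splice S hS P, fun i hi => ?_⟩
    obtain ⟨j, rfl⟩ : ∃ j, i = j + 1 := ⟨i - 1, by omega⟩
    exact hP j (by omega)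

theorem hasProjectiveDimensionLE_of_resolution : ∀ (d : ℕ) (M : C) (P : ProjectiveResolution M),
    (∀ i : ℕ, d < i → IsZero (P.complex.X i)) → ∀ n ≥ d, HasProjectiveDimensionLE M n := by
  intro d M P hP n hn
  -- cycles of the resolution
  let B : ℕ → C := fun i => Limits.kernel (P.complex.d (i + 1) i)
  have hproj : ∀ i, Projective (P.complex.X i) := fun i => P.projective i
  have hpr : ∀ i k, HasProjectiveDimensionLT (P.complex.X i) (k + 1) := fun i k =>
    haveI := hproj i
    @hasProjectiveDimensionLT_of_ge _ _ _ _ 1 (k + 1) (by omega) inferInstance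
  have hB : ∀ i, d ≤ i + 1 → ∀ k, HasProjectiveDimensionLT (B i) k := by
    intro i hi k
    refine @hasProjectiveDimensionLT_of_ge _ _ _ _ 0 k (Nat.zero_le _) ?_
    refine IsZero.hasProjectiveDimensionLT_zero ?_
    haveI : Mono (P.complex.d (i + 1) i) := (P.exact_succ i).mono_g ((hP (i + 1 + 1) (by omega)).eq_of_src _ _)
    exact isZero_kernel_of_mono _
  have hstep : ∀ i k, HasProjectiveDimensionLT (B (i + 1)) k → HasProjectiveDimensionLT (B i) (k + 1) := by
    intro i k h
    have hex := P.exact_succ i
    let S : ShortComplex C := ShortComplex.mk (kernel.ι (P.complex.d (i + 2) (i + 1)))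
      (kernel.lift (P.complex.d (i + 1) i) (P.complex.d (i + 2) (i + 1)) (P.complex.d_comp_d _ _ _))
      (by apply (cancel_mono (kernel.ι _)).1; simp)
    haveI : Epi S.g := hex.epi_kernelLift
    have hS : S.ShortExact :=
      { exact := (ShortComplex.exact_iff_of_epi_of_isIso_of_mono
          ({ τ₁ := 𝟙 _, τ₂ := 𝟙 _, τ₃ := kernel.ι _, comm₂₃ := by simp [S] } :
            S ⟶ ShortComplex.mk (kernel.ι (P.complex.d (i + 2) (i + 1))) (P.complex.d (i + 2) (i + 1)) (kernel.condition _))).2
          (ShortComplex.exact_of_f_is_kernel _ (kernelIsKernel _)) }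
    exact hS.hasProjectiveDimensionLT_X₃ k h (hpr (i + 2) k)
  have hall : ∀ j i k, d ≤ i + 1 + j → j ≤ k → HasProjectiveDimensionLT (B i) k := by
    intro j
    induction j with
    | zero => intro i k h _; exact hB i h k
    | succ j ih =>
      intro i k h hk
      obtain ⟨k, rfl⟩ : ∃ k', k = k' + 1 := ⟨k - 1, by omega⟩
      exact hstep i k (ih (i + 1) k (by omega) (by omega))
  let S₀ : ShortComplex C := ShortComplex.mk (kernel.ι (P.π.f 0)) (P.π.f 0) (kernel.condition _)
  have hS₀ : S₀.ShortExact := { exact := ShortComplex.exact_of_f_is_kernel S₀ (kernelIsKernel _) }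
  rcases Nat.eq_zero_or_pos d with rfl | hd
  · refine @hasProjectiveDimensionLT_of_ge _ _ _ _ 1 (n + 1) (by omega) ?_
    haveI : Mono (P.π.f 0) := P.exact₀.mono_g ((hP 1 (by omega)).eq_of_src _ _)
    haveI : IsIso (P.π.f 0) := isIso_of_mono_of_epi _
    exact @hasProjectiveDimensionLT_of_iso _ _ _ _ _ (asIso (P.π.f 0)) 1 inferInstance
  · obtain ⟨m, rfl⟩ : ∃ m, n = m + 1 := ⟨n - 1, by omega⟩
    refine hS₀.hasProjectiveDimensionLT_X₃ (m + 1) ?_ (hpr 0 (m + 1))
    let S₁ : ShortComplex C := ShortComplex.mk (kernel.ι (P.complex.d 1 0))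
      (kernel.lift (P.π.f 0) (P.complex.d 1 0) P.complex_d_comp_π_f_zero)
      (by apply (cancel_mono (kernel.ι _)).1; rw [Category.assoc, kernel.lift_ι, kernel.condition, zero_comp])
    haveI : Epi S₁.g := P.exact₀.epi_kernelLift
    have hS₁ : S₁.ShortExact :=
      { exact := (ShortComplex.exact_iff_of_epi_of_isIso_of_mono
          ({ τ₁ := 𝟙 _, τ₂ := 𝟙 _, τ₃ := kernel.ι _, comm₂₃ := by simp [S₁] } :
            S₁ ⟶ ShortComplex.mk (kernel.ι (P.complex.d 1 0)) (P.complex.d 1 0) (kernel.condition _))).2
          (ShortComplex.exact_of_f_is_kernel _ (kernelIsKernel _)) }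
    exact hS₁.hasProjectiveDimensionLT_X₃ m (hall (d - 1) 0 m (by omega) (by omega)) (hpr 1 m)

end Groth.Agent.PdRes
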